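import Groth.Agent.QCTens72.Tilde
import Groth.Agent.QCPull72.Support

/-! Tensor products of quasi-coherent modules. -/

set_option autoImplicit false
set_option backward.isDefEq.respectTransparency.types false

noncomputable section

universe u

open CategoryTheory Limits AlgebraicGeometry TopologicalSpace Opposite TensorProduct
open Groth.Agent.QC70 Groth.Agent.QCPull72

namespace Groth.Agent.QCTens72

variable {X : Scheme.{u}} (F G : X.Modules) [F.IsQuasicoherent] [G.IsQuasicoherent]
  {U : X.Opens} (hU : IsAffineOpen U)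

/-- Sections over `U` as a module. -/
abbrev secMod (F : X.Modules) (U : X.Opens) : ModuleCat.{u} Γ(X, U) := ModuleCat.of _ Γ(F, U)

/-- A quasi-coherent module on an affine open. -/
def specResTilde : specRes F hU ≅ tilde (secMod F U) :=
  (tildeIsoSpecRes F hU).symm ≪≫ (tilde.functor _).mapIso (specTopIso F hU)

/-- The tensor product on an affine open. -/
def specResTensorIso :
    specRes (CohB1.tensorMod F G) hU ≅ tilde (tensObj (secMod F U) (secMod G U)) :=
  (EGA73.tensorRestrictIso hU.fromSpec F G).symm ≪≫
    EGA73.tensIso (specResTilde F hU) (specResTilde G hU) ≪≫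
    tensorTildeIso (secMod F U) (secMod G U)

/-- Sections of a tensor product over an affine open, as an isomorphism. -/
def sectionsTensorIso :
    ModuleCat.of Γ(X, U) Γ(CohB1.tensorMod F G, U) ≅ tensObj (secMod F U) (secMod G U) :=
  (specTopIso _ hU).symm ≪≫ moduleSpecΓFunctor.mapIso (specResTensorIso F G hU) ≪≫
    (tilde.isoTop _).symm

/-- Sections of a tensor product over an affine open. -/
def sectionsTensorEquiv :
    Γ(CohB1.tensorMod F G, U) ≃ₗ[Γ(X, U)] Γ(F, U) ⊗[Γ(X, U)] Γ(G, U) :=
  (sectionsTensorIso F G hU).toLinearEquiv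

theorem isQuasicoherent_tensorMod : (CohB1.tensorMod F G).IsQuasicoherent :=
  isQuasicoherent_of_forall_isLocAt _ fun U hU => by
    rw [isLocAt_iff_isIso_fromTildeΓ _ hU, isIso_fromTildeΓ_iff]
    exact ⟨_, ⟨(specResTensorIso F G hU).symm⟩⟩

theorem isFiniteType_tensorMod [F.IsFiniteType] [G.IsFiniteType] :
    (CohB1.tensorMod F G).IsFiniteType := by
  have := isQuasicoherent_tensorMod F G
  refine isFiniteType_of_finite_sections _ (fun U : X.affineOpens => U.1)
    (iSup_affineOpens_eq_top X) (fun U => U.2) fun U => ?_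
  have := finite_sections_of_isFiniteType F U.2
  have := finite_sections_of_isFiniteType G U.2
  exact Module.Finite.equiv (sectionsTensorEquiv F G U.2).symm

theorem mem_support_tensorProduct_iff {R M N : Type u} [CommRing R] [AddCommGroup M] [Module R M]
    [AddCommGroup N] [Module R N] [Module.Finite R M] [Module.Finite R N] (p : PrimeSpectrum R) :
    p ∈ Module.support R (M ⊗[R] N) ↔ p ∈ Module.support R M ∧ p ∈ Module.support R N := by
  simp only [Module.mem_support_iff_nontrivial_residueField_tensorProduct]
  let k := p.asIdeal.ResidueField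
  let e : k ⊗[R] (M ⊗[R] N) ≃ₗ[k] (k ⊗[R] M) ⊗[k] (k ⊗[R] N) :=
    TensorProduct.AlgebraTensorModule.distribBaseChange R k M N
  rw [e.toEquiv.nontrivial_congr]
  refine ⟨fun h => ⟨?_, ?_⟩, fun ⟨h₁, h₂⟩ =>
    (Module.FaithfullyFlat.nontrivial_tensorProduct_iff_right k (k ⊗[R] M)).mpr h₂⟩
  · by_contra hM
    have := not_nontrivial_iff_subsingleton.mp hM
    exact not_subsingleton_iff_nontrivial.mpr h inferInstance
  · by_contra hN
    have := not_nontrivial_iff_subsingleton.mp hN
    exact not_subsingleton_iff_nontrivial.mpr h inferInstance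

theorem support_tensorMod [F.IsFiniteType] [G.IsFiniteType] :
    CohB1.support (CohB1.tensorMod F G) = CohB1.support F ∩ CohB1.support G := by
  ext x
  obtain ⟨_, ⟨V, hV, rfl⟩, hx, -⟩ :=
    X.isBasis_affineOpens.exists_subset_of_mem_open (Set.mem_univ x) isOpen_univ
  have := isQuasicoherent_tensorMod F G
  have := finite_sections_of_isFiniteType F hV
  have := finite_sections_of_isFiniteType G hV
  rw [Set.mem_inter_iff, ← QCSupp72.mem_support_iff _ hV hx, ← QCSupp72.mem_support_iff F hV hx,
    ← QCSupp72.mem_support_iff G hV hx, (sectionsTensorEquiv F G hV).support_eq,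
    mem_support_tensorProduct_iff]

end Groth.Agent.QCTens72
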