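import Mathlib.Algebra.Module.LocalizedModule.Basic
import Mathlib.LinearAlgebra.TensorProduct.Basic

/-! The product `S⁻¹M × S⁻¹N → S⁻¹(M ⊗ N)`. -/

set_option autoImplicit false

noncomputable section

open TensorProduct

namespace Groth.Agent.QCTens72

variable {R : Type*} [CommRing R] {S : Submonoid R} {M N : Type*} [AddCommGroup M] [Module R M]
  [AddCommGroup N] [Module R N]

theorem mk_tmul_congr {m m' : M} {n n' : N} {s s' t t' : S}
    (h : LocalizedModule.mk m s = LocalizedModule.mk m' s')
    (h' : LocalizedModule.mk n t = LocalizedModule.mk n' t') :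
    LocalizedModule.mk (m ⊗ₜ[R] n) (s * t) = LocalizedModule.mk (m' ⊗ₜ[R] n') (s' * t') := by
  obtain ⟨u, hu⟩ := LocalizedModule.mk_eq.mp h
  obtain ⟨v, hv⟩ := LocalizedModule.mk_eq.mp h'
  refine LocalizedModule.mk_eq.mpr ⟨u * v, ?_⟩
  simp only [Submonoid.smul_def, Submonoid.coe_mul, smul_smul] at hu hv ⊢
  calc ((u : R) * v * ((s' : R) * t')) • (m ⊗ₜ[R] n)
      = (((u : R) * s') • m) ⊗ₜ[R] (((v : R) * t') • n) := by
        rw [smul_tmul', tmul_smul, smul_tmul', smul_smul]; congr 2; ring
    _ = (((u : R) * s) • m') ⊗ₜ[R] (((v : R) * t) • n') := by rw [hu, hv]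
    _ = ((u : R) * v * ((s : R) * t)) • (m' ⊗ₜ[R] n') := by
        rw [smul_tmul', tmul_smul, smul_tmul', smul_smul]; congr 2; ring

/-- The product of a fraction in `M` and a fraction in `N`. -/
def locMul (x : LocalizedModule S M) (y : LocalizedModule S N) : LocalizedModule S (M ⊗[R] N) :=
  LocalizedModule.liftOn x
    (fun p => LocalizedModule.liftOn y
      (fun q => LocalizedModule.mk (p.1 ⊗ₜ[R] q.1) (p.2 * q.2))
      (fun _ _ hq => mk_tmul_congr rfl (LocalizedModule.mk_eq.mpr hq)))
    (fun p p' hp => by
      induction y using LocalizedModule.induction_on with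
      | h n t =>
        rw [LocalizedModule.liftOn_mk, LocalizedModule.liftOn_mk]
        exact mk_tmul_congr (LocalizedModule.mk_eq.mpr hp) rfl)

@[simp]
theorem locMul_mk (m : M) (n : N) (s t : S) :
    locMul (LocalizedModule.mk m s) (LocalizedModule.mk n t) =
      LocalizedModule.mk (m ⊗ₜ[R] n) (s * t) := by
  rw [locMul, LocalizedModule.liftOn_mk, LocalizedModule.liftOn_mk]

theorem locMul_add_left (x x' : LocalizedModule S M) (y : LocalizedModule S N) :
    locMul (x + x') y = locMul x y + locMul x' y := by
  induction x, x' using LocalizedModule.induction_on₂ with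
  | h m m' s s' =>
    induction y using LocalizedModule.induction_on with
    | h n t =>
      rw [LocalizedModule.mk_add_mk, locMul_mk, locMul_mk, locMul_mk, LocalizedModule.mk_add_mk]
      refine LocalizedModule.mk_eq.mpr ⟨1, ?_⟩
      simp only [Submonoid.smul_def, Submonoid.coe_mul, OneMemClass.coe_one, one_smul, smul_add,
        add_tmul, ← smul_tmul', smul_smul]
      congr 1 <;> congr 1 <;> ring

theorem locMul_add_right (x : LocalizedModule S M) (y y' : LocalizedModule S N) :
    locMul x (y + y') = locMul x y + locMul x y' := by
  induction y, y' using LocalizedModule.induction_on₂ with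
  | h n n' t t' =>
    induction x using LocalizedModule.induction_on with
    | h m s =>
      rw [LocalizedModule.mk_add_mk, locMul_mk, locMul_mk, locMul_mk, LocalizedModule.mk_add_mk]
      refine LocalizedModule.mk_eq.mpr ⟨1, ?_⟩
      simp only [Submonoid.smul_def, Submonoid.coe_mul, OneMemClass.coe_one, one_smul, smul_add,
        tmul_add, tmul_smul, smul_smul]
      congr 1 <;> congr 1 <;> ring

theorem locMul_smul_left (c : Localization S) (x : LocalizedModule S M) (y : LocalizedModule S N) :
    locMul (c • x) y = c • locMul x y := by
  induction c using Localization.induction_on with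
  | H rs =>
    induction x using LocalizedModule.induction_on with
    | h m s =>
      induction y using LocalizedModule.induction_on with
      | h n t =>
        rw [LocalizedModule.mk_smul_mk, locMul_mk, locMul_mk, LocalizedModule.mk_smul_mk,
          ← smul_tmul', mul_assoc]

theorem locMul_smul_right (c : Localization S) (x : LocalizedModule S M) (y : LocalizedModule S N) :
    locMul x (c • y) = c • locMul x y := by
  induction c using Localization.induction_on with
  | H rs =>
    induction x using LocalizedModule.induction_on with
    | h m s =>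
      induction y using LocalizedModule.induction_on with
      | h n t =>
        rw [LocalizedModule.mk_smul_mk, locMul_mk, locMul_mk, LocalizedModule.mk_smul_mk,
          tmul_smul, mul_left_comm]

end Groth.Agent.QCTens72
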