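import Groth.Agent.QCTens72.Loc
import Groth.Agent.QC70.Res
import Groth.Agent.EGA73.Tensor
import Mathlib.AlgebraicGeometry.Modules.Tilde

/-! `tilde (M ⊗ N) ≅ tilde M ⊗ tilde N`. -/

set_option autoImplicit false
set_option backward.isDefEq.respectTransparency.types false

noncomputable section

universe u

open CategoryTheory Limits AlgebraicGeometry TopologicalSpace Opposite MonoidalCategory
open TensorProduct
open Groth.Agent.QC70

namespace Groth.Agent.QCTens72

variable {R : CommRingCat.{u}} (M N : ModuleCat.{u} R)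

/-- The tensor product module. -/
abbrev tensObj : ModuleCat.{u} R := ModuleCat.of R (M ⊗[R] N)

variable {M N}

/-- The product of sections. -/
def secMul {U : (Spec R).Opens} (s : Γ(tilde M, U)) (t : Γ(tilde N, U)) :
    Γ(tilde (tensObj M N), U) :=
  ⟨fun x => locMul (s.1 x) (t.1 x), fun x => by
    obtain ⟨V, hxV, iV, m, a, hs⟩ := s.2 x
    obtain ⟨W, hxW, iW, n, b, ht⟩ := t.2 x
    refine ⟨V ⊓ W, ⟨hxV, hxW⟩, Opens.infLELeft _ _ ≫ iV, m ⊗ₜ n, a * b, fun y => ?_⟩
    obtain ⟨ha, ha'⟩ := hs ⟨y.1, y.2.1⟩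
    obtain ⟨hb, hb'⟩ := ht ⟨y.1, y.2.2⟩
    exact ⟨y.1.asIdeal.primeCompl.mul_mem ha hb,
      (congrArg₂ locMul ha' hb').trans (locMul_mk _ _ _ _)⟩⟩

theorem secMul_res {U V : (Spec R).Opens} (h : V ≤ U) (s : Γ(tilde M, U)) (t : Γ(tilde N, U)) :
    secMul (res (tilde M) h s) (res (tilde N) h t) = res (tilde (tensObj M N)) h (secMul s t) := rfl

theorem secMul_add_left {U : (Spec R).Opens} (s s' : Γ(tilde M, U)) (t : Γ(tilde N, U)) :
    secMul (s + s') t = secMul s t + secMul s' t :=
  Subtype.ext (funext fun _ => locMul_add_left _ _ _)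

theorem secMul_add_right {U : (Spec R).Opens} (s : Γ(tilde M, U)) (t t' : Γ(tilde N, U)) :
    secMul s (t + t') = secMul s t + secMul s t' :=
  Subtype.ext (funext fun _ => locMul_add_right _ _ _)

theorem secMul_smul_left {U : (Spec R).Opens} (c : Γ(Spec R, U)) (s : Γ(tilde M, U))
    (t : Γ(tilde N, U)) : secMul (c • s) t = c • secMul s t :=
  Subtype.ext (funext fun _ => locMul_smul_left _ _ _)

theorem secMul_smul_right {U : (Spec R).Opens} (c : Γ(Spec R, U)) (s : Γ(tilde M, U))
    (t : Γ(tilde N, U)) : secMul s (c • t) = c • secMul s t :=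
  Subtype.ext (funext fun _ => locMul_smul_right _ _ _)

variable (M N)

/-- A pure tensor in the sectionwise tensor product. -/
abbrev pureTensor {U : (Spec R).Opens} (s : Γ(tilde M, U)) (t : Γ(tilde N, U)) :
    (CohB1.tensorPre (tilde M) (tilde N)).obj (op U) :=
  Mod48.tp (O := (Spec R).sheaf) (M := CohB1.toPMod (tilde M)) (N := CohB1.toPMod (tilde N))
    (X := op U) s t

/-- Multiplication, open by open. -/
def mulApp (U : ((Spec R).Opens)ᵒᵖ) :
    (CohB1.tensorPre (tilde M) (tilde N)).obj U ⟶ (CohB1.toPMod (tilde (tensObj M N))).obj U :=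
  ModuleCat.MonoidalCategory.tensorLift
    (fun s t => (secMul (U := U.unop) s t :))
    (fun _ _ _ => secMul_add_left (U := U.unop) _ _ _)
    (fun c s t => secMul_smul_left (U := U.unop) c s t)
    (fun _ _ _ => secMul_add_right (U := U.unop) _ _ _)
    (fun c s t => secMul_smul_right (U := U.unop) c s t)

theorem mulApp_tp {U : (Spec R).Opens} (s : Γ(tilde M, U)) (t : Γ(tilde N, U)) :
    mulApp M N (op U) (pureTensor M N s t) = secMul s t := rfl

/-- Multiplication of sections as a map of presheaves of modules. -/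
def mulPre : CohB1.tensorPre (tilde M) (tilde N) ⟶ CohB1.toPMod (tilde (tensObj M N)) where
  app U := mulApp M N U
  naturality _ := ModuleCat.MonoidalCategory.tensor_ext (fun _ _ => rfl)

/-- The scalars `R → Γ(Spec R, U)`. -/
def scal (U : (Spec R).Opens) : R →+* Γ(Spec R, U) :=
  ((Scheme.ΓSpecIso R).inv ≫ (Spec R).presheaf.map U.leTop.op).hom

theorem smul_eq_scal (T : (Spec R).Modules) (U : (Spec R).Opens) (r : R) (x : Γ(T, U)) :
    r • x = scal U r • x := rfl

theorem secMul_toOpen (U : (Spec R).Opens) (m : M) (n : N) :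
    secMul (tilde.toOpen M U m) (tilde.toOpen N U n) =
      tilde.toOpen (tensObj M N) U (m ⊗ₜ[R] n) :=
  Subtype.ext (funext fun x =>
    (locMul_mk m n _ _).trans (LocalizedModule.mk_eq.mpr ⟨1, by simp [Submonoid.smul_def]⟩))

/-- The tensors coming from `M ⊗ N`. -/
def incl (U : (Spec R).Opens) :
    M ⊗[R] N →+ (CohB1.tensorPre (tilde M) (tilde N)).obj (op U) :=
  TensorProduct.liftAddHom
    { toFun := fun m =>
        { toFun := fun n => pureTensor M N (tilde.toOpen M U m) (tilde.toOpen N U n)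
          map_zero' := by
            rw [map_zero]; exact TensorProduct.tmul_zero _ _
          map_add' := fun a b => by
            rw [map_add]; exact Mod48.tp_add_right (O := (Spec R).sheaf) _ _ _ }
      map_zero' := AddMonoidHom.ext fun n => by
        change pureTensor M N (tilde.toOpen M U 0) (tilde.toOpen N U n) = 0
        rw [map_zero]; exact TensorProduct.zero_tmul _ _
      map_add' := fun a b => AddMonoidHom.ext fun n => by
        change pureTensor M N (tilde.toOpen M U (a + b)) (tilde.toOpen N U n) = _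
        rw [map_add]; exact Mod48.tp_add_left (O := (Spec R).sheaf) _ _ _ }
    (fun r m n => by
      change pureTensor M N (tilde.toOpen M U (r • m)) (tilde.toOpen N U n) =
        pureTensor M N (tilde.toOpen M U m) (tilde.toOpen N U (r • n))
      rw [map_smul, map_smul]
      exact (Mod48.tp_smul_left (O := (Spec R).sheaf) (M := CohB1.toPMod (tilde M))
        (N := CohB1.toPMod (tilde N)) (X := op U) (scal U r) _ _).trans
        (Mod48.tp_smul_right (O := (Spec R).sheaf) (M := CohB1.toPMod (tilde M))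
        (N := CohB1.toPMod (tilde N)) (X := op U) (scal U r) _ _).symm)

theorem incl_tmul (U : (Spec R).Opens) (m : M) (n : N) :
    incl M N U (m ⊗ₜ[R] n) = pureTensor M N (tilde.toOpen M U m) (tilde.toOpen N U n) := rfl

/-- The ring acting on sectionwise tensors. -/
abbrev secRing (U : (Spec R).Opens) : RingCat.{u} :=
  ((Spec R).sheaf.obj ⋙ forget₂ CommRingCat RingCat).obj (op U)

/-- `scal` into the ring acting on sectionwise tensors. -/
def scal' (U : (Spec R).Opens) : R →+* secRing (R := R) U := scal U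

theorem exists_smul_eq_toOpen (T : ModuleCat.{u} R) (g : R)
    (y : Γ(tilde T, PrimeSpectrum.basicOpen g)) :
    ∃ s ∈ Submonoid.powers g, ∃ p : T,
      scal (PrimeSpectrum.basicOpen g) s • y = tilde.toOpen T (PrimeSpectrum.basicOpen g) p := by
  obtain ⟨⟨p, s⟩, hs⟩ := IsLocalizedModule.surj (Submonoid.powers g)
    (tilde.toOpen T (PrimeSpectrum.basicOpen g)).hom y
  exact ⟨s, s.2, p, hs⟩

theorem exists_smul_eq_zero (T : ModuleCat.{u} R) (g : R) (p : T)
    (h : (tilde.toOpen T (PrimeSpectrum.basicOpen g)).hom p = 0) :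
    ∃ u ∈ Submonoid.powers g, u • p = 0 := by
  obtain ⟨u, hu⟩ := (IsLocalizedModule.eq_zero_iff (Submonoid.powers g)
    (tilde.toOpen T (PrimeSpectrum.basicOpen g)).hom).mp h
  exact ⟨u, u.2, hu⟩

theorem incl_smul (U : (Spec R).Opens) (r : R) (p : M ⊗[R] N) :
    incl M N U (r • p) = scal' U r • incl M N U p := by
  induction p using TensorProduct.induction_on with
  | zero => rw [smul_zero, map_zero, smul_zero]
  | tmul m n =>
    rw [TensorProduct.smul_tmul', incl_tmul, incl_tmul, map_smul]
    exact Mod48.tp_smul_left (O := (Spec R).sheaf) (M := CohB1.toPMod (tilde M))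
        (N := CohB1.toPMod (tilde N)) (X := op U) (scal U r) _ _
  | add p q hp hq => rw [smul_add, map_add, hp, hq, map_add, smul_add]

theorem mulApp_incl (U : (Spec R).Opens) (p : M ⊗[R] N) :
    mulApp M N (op U) (incl M N U p) = tilde.toOpen (tensObj M N) U p := by
  induction p using TensorProduct.induction_on with
  | zero =>
    rw [map_zero]
    exact (map_zero (mulApp M N (op U)).hom).trans (map_zero (tilde.toOpen (tensObj M N) U).hom).symm
  | tmul m n => exact secMul_toOpen M N U m n
  | add p q hp hq =>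
    rw [map_add]
    exact (map_add (mulApp M N (op U)).hom _ _).trans ((congrArg₂ (· + ·) hp hq).trans
      (map_add (tilde.toOpen (tensObj M N) U).hom _ _).symm)

variable (f : R)

theorem isUnit_scal {s : R} (hs : s ∈ Submonoid.powers f) :
    IsUnit (scal' (PrimeSpectrum.basicOpen f) s) := by
  show IsUnit (scal (PrimeSpectrum.basicOpen f) s)
  obtain ⟨k, rfl⟩ := hs
  rw [map_pow]
  refine IsUnit.pow k ?_
  exact IsLocalization.Away.algebraMap_isUnit (S := Γ(Spec R, PrimeSpectrum.basicOpen f)) f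

theorem exists_smul_eq_incl (x : (CohB1.tensorPre (tilde M) (tilde N)).obj
      (op (PrimeSpectrum.basicOpen f : (Spec R).Opens))) :
    ∃ s ∈ Submonoid.powers f, ∃ p : M ⊗[R] N,
      scal' (PrimeSpectrum.basicOpen f) s • x = incl M N (PrimeSpectrum.basicOpen f) p := by
  induction x using TensorProduct.induction_on with
  | zero =>
    have h := incl_smul M N (PrimeSpectrum.basicOpen f) 1 0
    rw [smul_zero, map_zero] at h
    exact ⟨1, one_mem _, 0, by rw [map_zero]; exact h.symm⟩
  | tmul a b =>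
    obtain ⟨⟨m, s⟩, hs⟩ := IsLocalizedModule.surj (Submonoid.powers f)
      (tilde.toOpen M (PrimeSpectrum.basicOpen f)).hom a
    obtain ⟨⟨n, t⟩, ht⟩ := IsLocalizedModule.surj (Submonoid.powers f)
      (tilde.toOpen N (PrimeSpectrum.basicOpen f)).hom b
    refine ⟨(s : R) * t, mul_mem s.2 t.2, m ⊗ₜ[R] n, ?_⟩
    have hs' : scal (PrimeSpectrum.basicOpen f) (s : R) • (show Γ(tilde M, _) from a) =
        tilde.toOpen M (PrimeSpectrum.basicOpen f) m := hs
    have ht' : scal (PrimeSpectrum.basicOpen f) (t : R) • (show Γ(tilde N, _) from b) =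
        tilde.toOpen N (PrimeSpectrum.basicOpen f) n := ht
    rw [incl_tmul, ← hs', ← ht', map_mul, mul_smul]
    refine Eq.trans ?_ (Mod48.tp_smul_left (O := (Spec R).sheaf) (M := CohB1.toPMod (tilde M))
        (N := CohB1.toPMod (tilde N)) (X := op _) (scal _ (s : R)) _ _).symm
    refine congrArg _ ?_
    exact (Mod48.tp_smul_right (O := (Spec R).sheaf) (M := CohB1.toPMod (tilde M))
        (N := CohB1.toPMod (tilde N)) (X := op _) (scal _ (t : R)) _ _).symm
  | add x y hx hy =>
    obtain ⟨s, hs, p, hp⟩ := hx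
    obtain ⟨t, ht, q, hq⟩ := hy
    refine ⟨s * t, mul_mem hs ht, t • p + s • q, ?_⟩
    rw [map_add, incl_smul, incl_smul, ← hp, ← hq, smul_smul, smul_smul, ← map_mul, ← map_mul,
      mul_comm t s]
    exact smul_add _ _ _

theorem mulApp_bijective :
    Function.Bijective (mulApp M N (op (PrimeSpectrum.basicOpen f : (Spec R).Opens))) := by
  constructor
  · rw [injective_iff_map_eq_zero]
    intro x hx
    obtain ⟨s, hs, p, hp⟩ := exists_smul_eq_incl M N f x
    have h0 : (tilde.toOpen (tensObj M N) (PrimeSpectrum.basicOpen f)).hom p = 0 := by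
      show (tilde.toOpen (tensObj M N) (PrimeSpectrum.basicOpen f)) p = 0
      rw [← mulApp_incl, ← hp]
      exact (map_smul (mulApp M N _).hom _ _).trans
        ((congrArg _ hx).trans (smul_zero _))
    obtain ⟨u, hu, hup⟩ := exists_smul_eq_zero (tensObj M N) f p h0
    have h1 : scal' (PrimeSpectrum.basicOpen f) (u * s) • x = 0 := by
      rw [map_mul, mul_smul, hp, ← incl_smul, show u • p = (0 : M ⊗[R] N) from hup, map_zero]
    exact (isUnit_scal f (mul_mem hu hs)).smul_eq_zero.mp h1
  · intro y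
    obtain ⟨s, hs, p, hp⟩ := exists_smul_eq_toOpen (tensObj M N) f y
    obtain ⟨v, hv⟩ := (isUnit_scal f hs).exists_left_inv
    refine ⟨v • incl M N _ p, ?_⟩
    refine (map_smul (mulApp M N _).hom v _).trans
      ((congrArg (v • ·) ((mulApp_incl M N _ p).trans hp.symm)).trans ?_)
    exact (smul_smul _ _ _).trans ((congrArg (· • y) hv).trans (one_smul _ _))

theorem isLocalIso_mulPre : Mod48.IsLocalIso (O := (Spec R).sheaf) (mulPre M N) where
  inj := ⟨fun {U} a b h x hx => by
    obtain ⟨_, ⟨_, ⟨g, rfl⟩, rfl⟩, hxg, hgU : PrimeSpectrum.basicOpen g ≤ U.unop⟩ :=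
      PrimeSpectrum.isBasis_basic_opens.exists_subset_of_mem_open hx U.unop.2
    refine ⟨PrimeSpectrum.basicOpen g, homOfLE hgU, ?_, hxg⟩
    refine (mulApp_bijective M N g).1 ?_
    have hn := fun c => PresheafOfModules.naturality_apply (mulPre M N) (homOfLE hgU).op c
    exact (hn a).trans ((congrArg _ h).trans (hn b).symm)⟩
  surj := ⟨fun {U} y x hx => by
    obtain ⟨_, ⟨_, ⟨g, rfl⟩, rfl⟩, hxg, hgU : PrimeSpectrum.basicOpen g ≤ U⟩ :=
      PrimeSpectrum.isBasis_basic_opens.exists_subset_of_mem_open hx U.2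
    exact ⟨PrimeSpectrum.basicOpen g, homOfLE hgU, (mulApp_bijective M N g).2 _, hxg⟩⟩

/-- `tilde M ⊗ tilde N ≅ tilde (M ⊗ N)`. -/
def tensorTildeIso : CohB1.tensorMod (tilde M) (tilde N) ≅ tilde (tensObj M N) :=
  have := (Mod48.isIso_shf_map_iff_isLocalIso (O := (Spec R).sheaf) (mulPre M N)).mpr
    (isLocalIso_mulPre M N)
  @asIso _ _ _ _ ((Mod48.shf (O := (Spec R).sheaf)).map (mulPre M N)) this ≪≫
    (Mod48.shfCounitIso (O := (Spec R).sheaf)).app (tilde (tensObj M N))

end Groth.Agent.QCTens72
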